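import Mathlib.AlgebraicTopology.ExtraDegeneracy
import Mathlib.Algebra.Homology.Functor
import Mathlib.Algebra.Homology.QuasiIso
import Mathlib.Algebra.Homology.SingleHomology

set_option autoImplicit false
set_option backward.isDefEq.respectTransparency false
set_option backward.isDefEq.respectTransparency.types false
set_option backward.defeqAttrib.useBackward true

universe v v' v'' u u' u''

open CategoryTheory CategoryTheory.Limits Opposite Simplicial AlgebraicTopology

namespace Groth.Agent.Lead.FreeNerve

section Epsilon

variable {C : Type u} [Category.{v} C] [Preadditive C] [HasZeroObject C]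
  {D : Type u'} [Category.{v'} D] [Preadditive D] [HasZeroObject D]

/-- The augmentation of the alternating face map complex commutes with additive functors. -/
noncomputable def arrowEpsilonIso (F : C ⥤ D) [F.Additive] (A : SimplicialObject.Augmented C) :
    Arrow.mk ((F.mapHomologicalComplex (ComplexShape.down ℕ)).map
      (AlternatingFaceMapComplex.ε.app A)) ≅
    Arrow.mk (AlternatingFaceMapComplex.ε.app
      (((SimplicialObject.Augmented.whiskering _ _).obj F).obj A)) :=
  Arrow.isoMk
    (eqToIso (congrArg (fun G => G.obj (SimplicialObject.Augmented.drop.obj A))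
      (map_alternatingFaceMapComplex F)))
    ((HomologicalComplex.singleMapHomologicalComplex F (ComplexShape.down ℕ) 0).app
      (SimplicialObject.Augmented.point.obj A))
    (by
      apply HomologicalComplex.to_single_hom_ext
      simp [HomologicalComplex.eqToHom_f])

end Epsilon

theorem quasiIso_of_arrow_iso {C : Type u} [Category.{v} C] [Abelian C] {ι : Type*}
    {c : ComplexShape ι} {f g : Arrow (HomologicalComplex C c)} (e : f ≅ g)
    (h : QuasiIso f.hom) : QuasiIso g.hom :=
  ((HomologicalComplex.quasiIso C c).arrow_iso_iff e).1 h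

/-- An extra degeneracy makes the augmentation a quasi-isomorphism. -/
theorem quasiIso_epsilon_of_extraDegeneracy {C : Type u} [Category.{v} C] [Abelian C]
    {X : SimplicialObject.Augmented C} (ed : SimplicialObject.Augmented.ExtraDegeneracy X) :
    QuasiIso (AlternatingFaceMapComplex.ε.app X) :=
  inferInstanceAs (QuasiIso ed.homotopyEquiv.hom)

/-- Criterion on functor categories, evaluated pointwise. -/
theorem quasiIso_epsilon_of_pointwise {T : Type u'} [Category.{v'} T] {C : Type u}
    [Category.{v} C] [Abelian C] (A : SimplicialObject.Augmented (T ⥤ C))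
    (h : ∀ t : T, Nonempty (SimplicialObject.Augmented.ExtraDegeneracy
      (((SimplicialObject.Augmented.whiskering _ _).obj ((evaluation T C).obj t)).obj A))) :
    QuasiIso (AlternatingFaceMapComplex.ε.app A) := by
  rw [HomologicalComplex.quasiIso_iff_evaluation]
  intro t
  obtain ⟨ed⟩ := h t
  exact quasiIso_of_arrow_iso (arrowEpsilonIso ((evaluation T C).obj t) A).symm
    (quasiIso_epsilon_of_extraDegeneracy ed)

/-- The augmentation is a quasi-iso once it is so after replacing the target isomorphically. -/
theorem quasiIso_epsilon_of_hom {C : Type u} [Category.{v} C] [Abelian C]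
    {X Y : SimplicialObject.Augmented C} (φ : X ⟶ Y) [IsIso φ.left] [IsIso φ.right]
    (h : QuasiIso (AlternatingFaceMapComplex.ε.app X)) :
    QuasiIso (AlternatingFaceMapComplex.ε.app Y) := by
  refine quasiIso_of_arrow_iso (f := Arrow.mk (AlternatingFaceMapComplex.ε.app X))
    (g := Arrow.mk (AlternatingFaceMapComplex.ε.app Y)) (Arrow.isoMk
    ((alternatingFaceMapComplex C).mapIso (asIso φ.left))
    ((ChainComplex.single₀ C).mapIso (asIso φ.right)) ?_) h
  exact (AlternatingFaceMapComplex.ε.naturality φ)

section Nerve

variable {E : Type u} [Category.{v} E] (F : E ⥤ Type v') {f : Arrow E}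
  [∀ n : ℕ, HasWidePullback f.right (fun _ : Fin (n + 1) => f.left) fun _ => f.hom]
  [∀ n : ℕ, PreservesLimitsOfShape (WidePullbackShape (Fin (n + 1))) F]

/-- Elements of the image of a wide pullback under a functor preserving it. -/
theorem mapped_widePullback_ext {n : ℕ}
    {x y : F.obj (widePullback f.right (fun _ : Fin (n + 1) => f.left) fun _ => f.hom)}
    (h : ∀ i, F.map (WidePullback.π (fun _ => f.hom) i) x =
      F.map (WidePullback.π (fun _ => f.hom) i) y) : x = y := by
  apply (Types.isLimitEquivSections (isLimitOfPreserves F (limit.isLimit _))).injective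
  refine Subtype.ext (funext ?_)
  rintro (_ | i)
  · have hb := WidePullback.π_arrow (fun _ : Fin (n + 1) => f.hom) 0
    change F.map (WidePullback.base _) x = F.map (WidePullback.base _) y
    rw [← hb, Functor.map_comp]
    simp only [types_comp_apply]
    rw [h 0]
  · exact h i

theorem mapped_widePullback_exists {n : ℕ} (a : Fin (n + 1) → F.obj f.left) (b : F.obj f.right)
    (h : ∀ i, F.map f.hom (a i) = b) :
    ∃ x : F.obj (widePullback f.right (fun _ : Fin (n + 1) => f.left) fun _ => f.hom),
      ∀ i, F.map (WidePullback.π (fun _ => f.hom) i) x = a i := by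
  refine ⟨(Types.isLimitEquivSections (isLimitOfPreserves F (limit.isLimit _))).symm
    ⟨fun j => match j with
      | none => b
      | some i => a i, ?_⟩, fun i => ?_⟩
  · intro j k g
    cases g with
    | id =>
      change (ConcreteCategory.hom (((WidePullbackShape.wideCospan f.right (fun _ : Fin (n + 1) => f.left)
        (fun _ => f.hom)) ⋙ F).map (𝟙 j))) _ = _
      rw [CategoryTheory.Functor.map_id]
      rfl
    | term i => exact h i
  · exact Types.isLimitEquivSections_symm_apply (J := WidePullbackShape (Fin (n + 1)))
      (isLimitOfPreserves F (limit.isLimit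
        (WidePullbackShape.wideCospan f.right (fun _ : Fin (n + 1) => f.left) fun _ => f.hom))) _ (some i)

/-- The image of a Čech nerve under a functor to types, with the augmentation corestricted to the
image, has an extra degeneracy. -/
theorem nonempty_extraDegeneracy_mapped_nerve {R : Type v'}
    (hom : f.cechNerve ⋙ F ⟶ (Functor.const _).obj R)
    (ι : R ⟶ F.obj f.right) (q : F.obj f.left ⟶ R)
    (hι : Function.Injective ι) (hq : Function.Surjective q)
    (hqι : q ≫ ι = F.map f.hom)
    (hhom : ∀ n, hom.app n ≫ ι = F.map (WidePullback.base _)) :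
    Nonempty (SimplicialObject.Augmented.ExtraDegeneracy
      ({ left := f.cechNerve ⋙ F, right := R, hom := hom } : SimplicialObject.Augmented (Type v'))) := by
  let Y : SimplicialObject.Augmented (Type v') := { left := f.cechNerve ⋙ F, right := R, hom := hom }
  have hqι' : ∀ a, ι (q a) = F.map f.hom a := fun a => congrArg (fun k => k a) hqι
  have hhom' : ∀ n x, ι (hom.app n x) = F.map (WidePullback.base _) x :=
    fun n x => congrArg (fun k => k x) (hhom n)
  have hw : F.map (WidePullback.π (fun _ : Fin 1 => f.hom) 0) ≫ q = hom.app (op ⦋0⦌) := by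
    ext x
    apply hι
    refine (hqι' _).trans (Eq.trans ?_ (hhom' (op ⦋0⦌) x).symm)
    change (F.map (WidePullback.π (fun _ : Fin 1 => f.hom) 0) ≫ F.map f.hom) x = _
    rw [← F.map_comp, WidePullback.π_arrow]
  let G : SimplicialObject.Augmented.toArrow.obj Y ⟶ Arrow.mk q :=
    Arrow.homMk (F.map (WidePullback.π (fun _ : Fin 1 => f.hom) 0)) (𝟙 R)
      (by simpa [Y] using hw)
  let φ : Y ⟶ (Arrow.mk q).augmentedCechNerve :=
    SimplicialObject.equivalenceLeftToRight Y (Arrow.mk q) G
  have hπ : ∀ (n : SimplexCategoryᵒᵖ) (i : Fin (n.unop.len + 1)) x,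
      (WidePullback.π (fun _ : Fin (n.unop.len + 1) => q) i) (φ.left.app n x) =
        F.map (WidePullback.π (fun _ : Fin (n.unop.len + 1) => f.hom) i) x := by
    intro n i x
    have h1 : φ.left.app n ≫ WidePullback.π (fun _ : Fin (n.unop.len + 1) => q) i =
        F.map (WidePullback.π (fun _ : Fin (n.unop.len + 1) => f.hom) i) := by
      simp only [φ, SimplicialObject.equivalenceLeftToRight_left_app]
      erw [WidePullback.lift_π]
      change F.map (f.cechNerve.map (SimplexCategory.const _ n.unop i).op) ≫ F.map _ = _
      rw [← F.map_comp]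
      congr 1
      simp
    exact congrArg (fun k => k x) h1
  have hbij : ∀ n, Function.Bijective (φ.left.app n) := by
    intro n
    constructor
    · intro x y hxy
      apply mapped_widePullback_ext F
      intro i
      rw [← hπ, ← hπ, hxy]
    · intro y
      obtain ⟨x, hx⟩ := mapped_widePullback_exists F (n := n.unop.len)
        (fun i => WidePullback.π (fun _ : Fin (n.unop.len + 1) => q) i y)
        (ι (WidePullback.base (fun _ : Fin (n.unop.len + 1) => q) y)) (fun i => by
          rw [← hqι']
          exact congrArg (fun k => ι (k y)) (WidePullback.π_arrow (fun _ => q) i))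
      refine ⟨x, mapped_widePullback_ext (𝟭 (Type v')) (f := Arrow.mk q) fun i => ?_⟩
      exact (hπ n i x).trans (hx i)
  have : IsIso φ.left := by
    rw [NatTrans.isIso_iff_isIso_app]
    exact fun n => (isIso_iff_bijective _).2 (hbij n)
  have : IsIso φ.right := inferInstanceAs (IsIso (𝟙 R))
  let e : Y ≅ (Arrow.mk q).augmentedCechNerve :=
    Comma.isoMk (asIso φ.left) (asIso φ.right) φ.w
  have : IsSplitEpi q := (isSplitEpi_iff_surjective q).2 hq
  exact ⟨(Arrow.AugmentedCechNerve.extraDegeneracy (Arrow.mk q)
    (IsSplitEpi.exists_splitEpi (f := q)).some).ofIso e.symm⟩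

end Nerve

end Groth.Agent.Lead.FreeNerve
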